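import Groth.Prelude.Def_W4c4chowquasisplitPn
import Mathlib

set_option autoImplicit false

open MvPolynomial

noncomputable section

namespace Groth.Agent.QsChowLib

open QsChow

variable {n : ℕ}

lemma numVars_pos (n : ℕ) : 0 < numVars n := by unfold numVars; omega

lemma two_le_numVars (hn : 2 ≤ n) : 2 ≤ numVars n := by unfold numVars; omega

lemma two_zero (n : ℕ) : (2 : P n) = 0 := by
  have : (2 : ZMod 2) = 0 := rfl
  simpa [map_ofNat] using congrArg (algebraMap (ZMod 2) (P n)) this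

lemma add_self (y : P n) : y + y = 0 := by rw [← two_mul, two_zero, zero_mul]

lemma eps_eq {j : ℕ} (h0 : 0 < j) (h : j ≤ numVars n) :
    eps n j = Ideal.Quotient.mk (truncIdeal n) (X (⟨j - 1, by omega⟩ : Fin (numVars n))) := by
  unfold eps
  rw [dif_pos ⟨h0, h⟩]

lemma mk_X (i : Fin (numVars n)) :
    Ideal.Quotient.mk (truncIdeal n) (X i) = eps n (i.val + 1) := by
  rw [eps_eq (Nat.succ_pos _) i.isLt]
  rfl

lemma phi_some (i : Fin (numVars n)) : phi n (X (some i)) = genImage n (some i) := by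
  simp [phi]

lemma phi_none : phi n (X none) = eps n 1 ^ (n - 1) * eps n 2 := by
  simp [phi, genImage]

lemma eps_one_mem : eps n 1 ∈ (phi n).range :=
  ⟨X (some ⟨0, numVars_pos n⟩), by simp [phi, genImage]⟩

lemma e2_mem (hn : 2 ≤ n) : eps n 2 ^ 2 + eps n 1 * eps n 2 ∈ (phi n).range :=
  ⟨X (some ⟨1, two_le_numVars hn⟩), by simp [phi, genImage]⟩

lemma ej_mem (i : Fin (numVars n)) (hi : 2 ≤ i.val) :
    eps n (i.val + 1) + eps n 1 ^ (2 * (i.val + 1) - 4) * eps n 2 ∈ (phi n).range :=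
  ⟨X (some i), by
    show phi n (X (some i)) = _
    rw [phi_some]
    unfold genImage
    dsimp only
    rw [if_neg (by omega), if_neg (by omega)]⟩

/-- every element is `u + v * eps 2` with `u`, `v` in the range of `phi` -/
lemma decomp (hn : 2 ≤ n) (y : P n) :
    ∃ u ∈ (phi n).range, ∃ v ∈ (phi n).range, y = u + v * eps n 2 := by
  obtain ⟨p, rfl⟩ := Ideal.Quotient.mk_surjective y
  induction p using MvPolynomial.induction_on with
  | C a =>
    exact ⟨algebraMap (ZMod 2) (P n) a, Subalgebra.algebraMap_mem _ a, 0, zero_mem _, by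
      rw [zero_mul, add_zero]; rfl⟩
  | add p q hp hq =>
    obtain ⟨u, hu, v, hv, h⟩ := hp
    obtain ⟨u', hu', v', hv', h'⟩ := hq
    exact ⟨u + u', add_mem hu hu', v + v', add_mem hv hv', by rw [map_add, h, h']; ring⟩
  | mul_X p i hp =>
    obtain ⟨u, hu, v, hv, h⟩ := hp
    have hmul2 : ∃ u' ∈ (phi n).range, ∃ v' ∈ (phi n).range,
        (u + v * eps n 2) * eps n 2 = u' + v' * eps n 2 := by
      refine ⟨v * (eps n 2 ^ 2 + eps n 1 * eps n 2), mul_mem hv (e2_mem hn),
        u + v * eps n 1, add_mem hu (mul_mem hv eps_one_mem), ?_⟩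
      linear_combination (-(v * eps n 1 * eps n 2)) * two_zero n
    rw [map_mul, h, mk_X]
    rcases Nat.lt_or_ge i.val 2 with hi | hi
    · rcases Nat.lt_or_ge i.val 1 with h0 | h0
      · rw [show i.val + 1 = 1 by omega]
        exact ⟨u * eps n 1, mul_mem hu eps_one_mem, v * eps n 1, mul_mem hv eps_one_mem, by ring⟩
      · rw [show i.val + 1 = 2 by omega]
        exact hmul2
    · obtain ⟨u', hu', v', hv', h'⟩ := hmul2
      have he := ej_mem i hi
      set e := eps n (i.val + 1) + eps n 1 ^ (2 * (i.val + 1) - 4) * eps n 2 with he'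
      have hp1 : eps n 1 ^ (2 * (i.val + 1) - 4) ∈ (phi n).range := pow_mem eps_one_mem _
      refine ⟨u * e + eps n 1 ^ (2 * (i.val + 1) - 4) * u',
        add_mem (mul_mem hu he) (mul_mem hp1 hu'),
        v * e + eps n 1 ^ (2 * (i.val + 1) - 4) * v',
        add_mem (mul_mem hv he) (mul_mem hp1 hv'), ?_⟩
      rw [he']
      linear_combination (eps n 1 ^ (2 * (i.val + 1) - 4)) * h' -
        (eps n 1 ^ (2 * (i.val + 1) - 4) * (u + v * eps n 2) * eps n 2) * two_zero n

/-- the annihilator of `eps 1` -/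
lemma exists_eq_pow_mul_of_eps_mul_eq_zero (hn : 2 ≤ n) {v : P n} (hv : eps n 1 * v = 0) :
    ∃ w, v = eps n 1 ^ (n - 1) * w := by
  obtain ⟨p, rfl⟩ := Ideal.Quotient.mk_surjective v
  let i0 : Fin (numVars n) := ⟨0, numVars_pos n⟩
  have h1 : eps n 1 = Ideal.Quotient.mk (truncIdeal n) (X i0) := eps_eq Nat.one_pos (numVars_pos n)
  rw [h1, ← map_mul, Ideal.Quotient.eq_zero_iff_mem] at hv
  have hspan : truncIdeal n = Ideal.span ((fun s => monomial s (1 : ZMod 2)) ''
      Set.range fun i : Fin (numVars n) => Finsupp.single i (bound n i)) := by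
    rw [truncIdeal, ← Set.range_comp]
    congr 1
    ext1
    simp [X_pow_eq_monomial]
  rw [hspan, mem_ideal_span_monomial_image] at hv
  have hp : p ∈ truncIdeal n ⊔ Ideal.span {(X i0 : FreeP n) ^ (n - 1)} := by
    rw [hspan, X_pow_eq_monomial, ← Ideal.span_union, ← Set.image_singleton (f := fun s =>
      monomial s (1 : ZMod 2)), ← Set.image_union, mem_ideal_span_monomial_image]
    intro d hd
    have hd' : Finsupp.single i0 1 + d ∈ (X i0 * p).support := by
      rw [support_X_mul]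
      exact Finset.mem_map.mpr ⟨d, hd, rfl⟩
    obtain ⟨-, ⟨i, rfl⟩, hle⟩ := hv _ hd'
    by_cases hi : i = i0
    · subst hi
      refine ⟨_, Or.inr rfl, ?_⟩
      have := hle i0
      simp [bound, i0] at this
      rw [Finsupp.single_le_iff]
      simp only [i0]
      omega
    · refine ⟨_, Or.inl ⟨i, rfl⟩, ?_⟩
      have := hle i
      simp [Finsupp.single_apply, Ne.symm hi] at this
      rw [Finsupp.single_le_iff]
      exact this
  obtain ⟨a, ha, b, hb, rfl⟩ := Submodule.mem_sup.mp hp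
  obtain ⟨c, rfl⟩ := Ideal.mem_span_singleton'.mp hb
  refine ⟨Ideal.Quotient.mk _ c, ?_⟩
  rw [map_add, Ideal.Quotient.eq_zero_iff_mem.mpr ha, zero_add, h1, map_mul, map_pow, mul_comm]

section Tau

variable (hn : 2 ≤ n) (τ : P n →ₐ[ZMod 2] P n) (hτ1 : τ (eps n 1) = eps n 1)
    (hτ : ∀ j : ℕ, 2 ≤ j → j ≤ numVars n → τ (eps n j) = eps n j + eps n 1 ^ (2 * j - 3))

include hn hτ in
lemma tau_eps_two : τ (eps n 2) = eps n 2 + eps n 1 := by
  have := hτ 2 le_rfl (two_le_numVars hn)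
  simpa using this

lemma eps_one_pow (hn : 2 ≤ n) : eps n 1 ^ n = 0 := by
  rw [eps_eq Nat.one_pos (numVars_pos n), ← map_pow, Ideal.Quotient.eq_zero_iff_mem]
  exact Ideal.subset_span ⟨⟨0, numVars_pos n⟩, by simp [bound]⟩

lemma eps_pred_mul (hn : 2 ≤ n) : eps n 1 ^ (n - 1) * eps n 1 = 0 := by
  rw [← pow_succ, show n - 1 + 1 = n by omega, eps_one_pow hn]

include hn hτ1 hτ in
lemma tau_phi : τ.comp (phi n) = phi n := by
  apply MvPolynomial.algHom_ext
  rintro (_ | i)
  · simp only [AlgHom.comp_apply, phi_none, map_mul, map_pow, hτ1, tau_eps_two hn τ hτ, mul_add]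
    rw [← pow_succ, show n - 1 + 1 = n by omega, eps_one_pow hn, add_zero]
  · simp only [AlgHom.comp_apply, phi_some]
    unfold genImage
    dsimp only
    split_ifs with h0 h1
    · exact hτ1
    · simp only [map_add, map_mul, map_pow, hτ1, tau_eps_two hn τ hτ]
      linear_combination (eps n 1 * eps n 2 + eps n 1 ^ 2) * two_zero n
    · rw [map_add, map_mul, map_pow, hτ1, tau_eps_two hn τ hτ,
        hτ _ (by omega) i.isLt, show 2 * (i.val + 1) - 3 = 2 * (i.val + 1) - 4 + 1 by omega,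
        pow_succ]
      linear_combination (eps n 1 ^ (2 * (i.val + 1) - 4) * eps n 1) * two_zero n

include hn hτ1 hτ in
lemma tau_of_mem_range {u : P n} (hu : u ∈ (phi n).range) : τ u = u := by
  obtain ⟨q, rfl⟩ := hu
  exact AlgHom.congr_fun (tau_phi hn τ hτ1 hτ) q

include hn hτ1 hτ in
lemma delta {u v : P n} (hu : u ∈ (phi n).range) (hv : v ∈ (phi n).range) :
    u + v * eps n 2 + τ (u + v * eps n 2) = eps n 1 * v := by
  rw [map_add, map_mul, tau_of_mem_range hn τ hτ1 hτ hu, tau_of_mem_range hn τ hτ1 hτ hv,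
    tau_eps_two hn τ hτ]
  linear_combination (u + v * eps n 2) * two_zero n

include hn hτ1 hτ in
lemma range_phi_eq : (phi n).range = AlgHom.equalizer τ (AlgHom.id (ZMod 2) (P n)) := by
  apply le_antisymm
  · intro u hu
    exact tau_of_mem_range hn τ hτ1 hτ hu
  · intro y hy
    have hy' : τ y = y := hy
    obtain ⟨u, hu, v, hv, rfl⟩ := decomp hn y
    have h := delta hn τ hτ1 hτ hu hv
    rw [hy', add_self] at h
    obtain ⟨w, rfl⟩ := exists_eq_pow_mul_of_eps_mul_eq_zero hn h.symm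
    obtain ⟨a, ha, b, hb, rfl⟩ := decomp hn w
    have hz := eps_pred_mul hn
    have hx : eps n 1 ^ (n - 1) * eps n 2 ∈ (phi n).range := ⟨X none, phi_none⟩
    have key : eps n 1 ^ (n - 1) * (a + b * eps n 2) * eps n 2 =
        a * (eps n 1 ^ (n - 1) * eps n 2) +
          b * eps n 1 ^ (n - 1) * (eps n 2 ^ 2 + eps n 1 * eps n 2) := by
      linear_combination (-(b * eps n 2)) * hz
    rw [key]
    exact add_mem hu (add_mem (mul_mem ha hx)
      (mul_mem (mul_mem hb (pow_mem eps_one_mem _)) (e2_mem hn)))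

include hn hτ1 hτ in
lemma range_delta :
    Set.range (fun y : P n => y + τ y) =
      (fun z : P n => eps n 1 * z) '' (AlgHom.equalizer τ (AlgHom.id (ZMod 2) (P n)) : Set (P n)) := by
  apply Set.Subset.antisymm
  · rintro _ ⟨y, rfl⟩
    obtain ⟨u, hu, v, hv, rfl⟩ := decomp hn y
    exact ⟨v, tau_of_mem_range hn τ hτ1 hτ hv, (delta hn τ hτ1 hτ hu hv).symm⟩
  · rintro _ ⟨z, hz, rfl⟩
    have hz' : τ z = z := hz
    refine ⟨z * eps n 2, ?_⟩
    dsimp only
    rw [map_mul, hz', tau_eps_two hn τ hτ]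
    linear_combination (z * eps n 2) * two_zero n

include hn hτ1 hτ in
lemma delta_mem_pow (m : ℕ) (hm1 : 1 ≤ m) (hmn : m ≤ n) (y : P n)
    (hy : y + τ y ∈ Ideal.span ({eps n 1 ^ m} : Set (P n))) :
    ∃ z : P n, τ z = z ∧ y + τ y = eps n 1 ^ m * z := by
  obtain ⟨w, hw⟩ := Ideal.mem_span_singleton.mp hy
  obtain ⟨u, hu, v, hv, rfl⟩ := decomp hn y
  obtain ⟨a, ha, b, hb, rfl⟩ := decomp hn w
  rw [delta hn τ hτ1 hτ hu hv] at hw ⊢
  obtain ⟨k, rfl⟩ : ∃ k, m = k + 1 := ⟨m - 1, by omega⟩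
  rw [pow_succ] at hw
  obtain ⟨c, hc⟩ := exists_eq_pow_mul_of_eps_mul_eq_zero hn
    (v := v - eps n 1 ^ k * (a + b * eps n 2)) (by linear_combination hw)
  obtain ⟨c1, hc1, c2, hc2, rfl⟩ := decomp hn c
  have h1 := congrArg (fun t => t + τ t) hc
  simp only [map_sub, map_mul, map_pow, hτ1, tau_of_mem_range hn τ hτ1 hτ hv] at h1
  have da := delta hn τ hτ1 hτ ha hb
  have dc := delta hn τ hτ1 hτ hc1 hc2
  have hz := eps_pred_mul hn
  have hb0 : eps n 1 ^ k * (eps n 1 * b) = 0 := by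
    linear_combination -h1 - (eps n 1 ^ k) * da - (eps n 1 ^ (n - 1)) * dc - c2 * hz + v * two_zero n
  refine ⟨a, tau_of_mem_range hn τ hτ1 hτ ha, ?_⟩
  rw [pow_succ]
  linear_combination hw + eps n 2 * hb0

end Tau

end Groth.Agent.QsChowLib
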