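import Groth.Agent.QsChowLib.Basic

set_option autoImplicit false

open MvPolynomial Pointwise

noncomputable section

namespace Groth.Agent.QsChowLib

open QsChow

variable {n : ℕ}

lemma add_pow_two_pow {R : Type*} [CommRing R] (h2 : (2 : R) = 0) (a b : R) (k : ℕ) :
    (a + b) ^ 2 ^ k = a ^ 2 ^ k + b ^ 2 ^ k := by
  induction k with
  | zero => simp
  | succ k ih =>
    rw [pow_succ, pow_mul, ih, pow_mul, pow_mul, add_sq, h2]
    ring

lemma telescope {R : Type*} [CommRing R] (h2 : (2 : R) = 0) (a b : R) (k : ℕ) :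
    ∑ t ∈ Finset.range k, a ^ (2 ^ k - 2 ^ (t + 1)) * (b ^ 2 + a * b) ^ 2 ^ t =
      b ^ 2 ^ k + a ^ (2 ^ k - 1) * b := by
  induction k with
  | zero =>
    simp only [Finset.range_zero, Finset.sum_empty, pow_zero, pow_one, Nat.sub_self, one_mul]
    linear_combination (-b) * h2
  | succ k ih =>
    have hle : 2 ^ k ≤ 2 ^ (k + 1) := Nat.pow_le_pow_right (by omega) (by omega)
    have e2 : 2 ^ (k + 1) = 2 ^ k + 2 ^ k := by rw [pow_succ]; omega
    have hs : ∀ t ∈ Finset.range k, a ^ (2 ^ (k + 1) - 2 ^ (t + 1)) * (b ^ 2 + a * b) ^ 2 ^ t =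
        a ^ 2 ^ k * (a ^ (2 ^ k - 2 ^ (t + 1)) * (b ^ 2 + a * b) ^ 2 ^ t) := by
      intro t ht
      have : 2 ^ (t + 1) ≤ 2 ^ k := Nat.pow_le_pow_right (by omega) (Finset.mem_range.mp ht)
      rw [← mul_assoc, ← pow_add]
      congr 2
      omega
    have h1 : 1 ≤ 2 ^ k := Nat.one_le_two_pow
    rw [Finset.sum_range_succ, Finset.sum_congr rfl hs, ← Finset.mul_sum, ih, Nat.sub_self,
      pow_zero, one_mul, add_pow_two_pow h2, ← pow_mul, mul_pow,
      show 2 ^ (k + 1) - 1 = 2 ^ k + (2 ^ k - 1) by omega, pow_add a,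
      show 2 * 2 ^ k = 2 ^ (k + 1) by omega]
    linear_combination (a ^ 2 ^ k * b ^ 2 ^ k) * h2

lemma le_mul_pow_klog (n j : ℕ) (hn : 2 ≤ n) (hj : 2 ≤ j) :
    n ≤ (2 * j - 3) * 2 ^ klog n j := by
  have h := Nat.lt_pow_succ_log_self (b := 2) (by omega) ((2 * n - 1) / (2 * j - 3))
  rw [Nat.div_lt_iff_lt_mul (by omega), Nat.succ_eq_add_one, pow_succ] at h
  unfold klog
  have : 2 ^ Nat.log 2 ((2 * n - 1) / (2 * j - 3)) * 2 * (2 * j - 3) =
      2 * ((2 * j - 3) * 2 ^ Nat.log 2 ((2 * n - 1) / (2 * j - 3))) := by ring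
  omega

lemma one_le_klog_two (hn : 2 ≤ n) : 1 ≤ klog n 2 := by
  unfold klog
  exact Nat.log_pos (by omega) (by omega)

lemma eps_pow_eq_zero {j : ℕ} (h2 : 2 ≤ j) (h : j ≤ numVars n) :
    eps n j ^ 2 ^ klog n j = 0 := by
  rw [eps_eq (by omega) h, ← map_pow, Ideal.Quotient.eq_zero_iff_mem]
  refine Ideal.subset_span ⟨⟨j - 1, by omega⟩, ?_⟩
  simp only [bound]
  rw [if_neg (by omega), show j - 1 + 1 = j by omega]

lemma eps_one_pow_of_le (hn : 2 ≤ n) {m : ℕ} (h : n ≤ m) : eps n 1 ^ m = 0 := by
  obtain ⟨d, rfl⟩ := Nat.exists_eq_add_of_le h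
  rw [pow_add, eps_one_pow hn, zero_mul]

/-- the involution -/
def tauFree (n : ℕ) : FreeP n →ₐ[ZMod 2] P n :=
  aeval fun i => if i.val = 0 then eps n 1 else eps n (i.val + 1) + eps n 1 ^ (2 * (i.val + 1) - 3)

lemma truncIdeal_le (hn : 2 ≤ n) : ∀ a ∈ truncIdeal n, tauFree n a = 0 := by
  intro a ha
  have : truncIdeal n ≤ RingHom.ker (tauFree n) := by
    refine Ideal.span_le.mpr ?_
    rintro _ ⟨i, rfl⟩
    simp only [SetLike.mem_coe, RingHom.mem_ker, map_pow, tauFree, aeval_X, bound]
    split_ifs with h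
    · exact eps_one_pow hn
    · rw [add_pow_two_pow (two_zero n), eps_pow_eq_zero (by omega) i.isLt, zero_add, ← pow_mul]
      exact eps_one_pow_of_le hn (le_mul_pow_klog n (i.val + 1) hn (by omega))
  exact this ha

def tau (hn : 2 ≤ n) : P n →ₐ[ZMod 2] P n :=
  Ideal.Quotient.liftₐ (truncIdeal n) (tauFree n) (truncIdeal_le hn)

lemma tau_eps (hn : 2 ≤ n) {j : ℕ} (h0 : 0 < j) (h : j ≤ numVars n) :
    tau hn (eps n j) = if j = 1 then eps n 1 else eps n j + eps n 1 ^ (2 * j - 3) := by
  rw [eps_eq h0 h]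
  show tauFree n (X _) = _
  simp only [tauFree, aeval_X]
  rw [show j - 1 + 1 = j by omega, eps_eq h0 h]
  by_cases hj : j = 1
  · rw [if_pos (by omega), if_pos hj]
  · rw [if_neg (by omega), if_neg hj]

lemma tau_one (hn : 2 ≤ n) : tau hn (eps n 1) = eps n 1 := by
  rw [tau_eps hn Nat.one_pos (numVars_pos n), if_pos rfl]

lemma tau_j (hn : 2 ≤ n) : ∀ j : ℕ, 2 ≤ j → j ≤ numVars n →
    tau hn (eps n j) = eps n j + eps n 1 ^ (2 * j - 3) := by
  intro j h2 h
  rw [tau_eps hn (by omega) h, if_neg (by omega)]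

lemma phi_evar {j : ℕ} (h0 : 0 < j) (h : j ≤ numVars n) :
    phi n (evar n j) = if j = 1 then eps n 1
      else if j = 2 then eps n 2 ^ 2 + eps n 1 * eps n 2
      else eps n j + eps n 1 ^ (2 * j - 4) * eps n 2 := by
  unfold evar
  rw [dif_pos ⟨h0, h⟩, phi_some]
  unfold genImage
  dsimp only
  rw [show j - 1 + 1 = j by omega]
  by_cases h1 : j = 1
  · rw [if_pos (by omega), if_pos h1]
  · by_cases h2 : j = 2
    · rw [if_neg (by omega), if_pos (by omega), if_neg h1, if_pos h2]
    · rw [if_neg (by omega), if_neg (by omega), if_neg h1, if_neg h2]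

lemma phi_xvar : phi n (xvar n) = eps n 1 ^ (n - 1) * eps n 2 := phi_none

lemma phi_sPoly (hn : 2 ≤ n) (j : ℕ) :
    phi n (sPoly n j) = eps n 2 ^ 2 ^ klog n j + eps n 1 ^ (2 ^ klog n j - 1) * eps n 2 := by
  have e1 : phi n (evar n 1) = eps n 1 := by
    rw [phi_evar Nat.one_pos (numVars_pos n), if_pos rfl]
  have e2 : phi n (evar n 2) = eps n 2 ^ 2 + eps n 1 * eps n 2 := by
    rw [phi_evar two_pos (two_le_numVars hn), if_neg (by omega), if_pos rfl]
  simp only [sPoly, map_sum, map_mul, map_pow, e1, e2]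
  exact telescope (two_zero n) _ _ _

lemma presIdeal_le_ker (hn : 2 ≤ n) : presIdeal n ≤ RingHom.ker (phi n) := by
  rw [presIdeal, Ideal.span_le]
  have e1 : phi n (evar n 1) = eps n 1 := by
    rw [phi_evar Nat.one_pos (numVars_pos n), if_pos rfl]
  rintro a (ha | ⟨i, rfl⟩)
  · simp only [SetLike.mem_coe, RingHom.mem_ker]
    rcases ha with rfl | rfl | rfl
    · rw [map_pow, e1, eps_one_pow hn]
    · rw [map_mul, e1, phi_xvar, ← mul_assoc, mul_comm (eps n 1), eps_pred_mul hn, zero_mul]
    · rw [map_pow, phi_xvar, mul_pow, ← pow_mul, eps_one_pow_of_le hn (by omega), zero_mul]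
  · simp only [SetLike.mem_coe, RingHom.mem_ker, hrel]
    split_ifs with h2 h3
    · have hk := le_mul_pow_klog n 2 hn le_rfl
      rw [map_add, map_mul, map_pow, e1, phi_xvar, phi_sPoly hn, ← mul_assoc, ← pow_add,
        show 2 ^ klog n 2 - n + (n - 1) = 2 ^ klog n 2 - 1 by omega,
        eps_pow_eq_zero le_rfl (two_le_numVars hn)]
      linear_combination (eps n 1 ^ (2 ^ klog n 2 - 1) * eps n 2) * two_zero n
    · generalize hj : i.val + 1 = j at h2 h3 ⊢
      have hk := le_mul_pow_klog n j hn (by omega)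
      have hpos : 1 ≤ 2 ^ klog n j := Nat.one_le_two_pow
      have hsplit : (2 * j - 3) * 2 ^ klog n j = (2 * j - 4) * 2 ^ klog n j + 2 ^ klog n j := by
        rw [show 2 * j - 3 = 2 * j - 4 + 1 by omega, Nat.succ_mul]
      simp only [map_add, map_mul, map_pow, e1, phi_xvar, phi_sPoly hn]
      rw [phi_evar (by omega) h3.2, if_neg (by omega), if_neg h2, add_pow_two_pow (two_zero n),
        eps_pow_eq_zero (by omega) h3.2, mul_pow, ← pow_mul, ← mul_assoc (eps n 1 ^ _),
        ← pow_add, mul_add, ← mul_assoc (eps n 1 ^ ((2 * j - 4) * 2 ^ klog n j))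
          (eps n 1 ^ (2 ^ klog n j - 1)), ← pow_add,
        show (2 * j - 3) * 2 ^ klog n j - n + (n - 1) =
          (2 * j - 4) * 2 ^ klog n j + (2 ^ klog n j - 1) by omega]
      linear_combination (eps n 1 ^ ((2 * j - 4) * 2 ^ klog n j + (2 ^ klog n j - 1)) * eps n 2 +
        eps n 1 ^ ((2 * j - 4) * 2 ^ klog n j) * eps n 2 ^ 2 ^ klog n j) * two_zero n
    · exact map_zero _

abbrev A (n : ℕ) : Type := FreeE n ⧸ presIdeal n

abbrev q (n : ℕ) : FreeE n →ₐ[ZMod 2] A n := Ideal.Quotient.mkₐ (ZMod 2) (presIdeal n)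

lemma q_zero {a : FreeE n} (h : a ∈ presIdeal n) : q n a = 0 :=
  Ideal.Quotient.eq_zero_iff_mem.mpr h

lemma closed_step {R : Type*} [CommRing R] [Algebra (ZMod 2) R] (N : Submodule (ZMod 2) R)
    (h1 : (1 : R) ∈ N) (hN : N * N ≤ N) (y : R) (c : ℕ) (hc : 0 < c)
    (hy : y ^ c ∈ N * Submodule.span (ZMod 2) ((fun b => y ^ b) '' Set.Iio c)) :
    (1 : R) ∈ N * Submodule.span (ZMod 2) ((fun b => y ^ b) '' Set.Iio c) ∧
    N ≤ N * Submodule.span (ZMod 2) ((fun b => y ^ b) '' Set.Iio c) ∧
    y ∈ N * Submodule.span (ZMod 2) ((fun b => y ^ b) '' Set.Iio c) ∧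
    N * Submodule.span (ZMod 2) ((fun b => y ^ b) '' Set.Iio c) *
      (N * Submodule.span (ZMod 2) ((fun b => y ^ b) '' Set.Iio c)) ≤
      N * Submodule.span (ZMod 2) ((fun b => y ^ b) '' Set.Iio c) := by
  set Y := Submodule.span (ZMod 2) ((fun b => y ^ b) '' Set.Iio c) with hY
  have h1Y : (1 : R) ∈ Y := Submodule.subset_span ⟨0, hc, pow_zero y⟩
  have hpow : ∀ b : ℕ, y ^ b ∈ N * Y := by
    have hstep : ∀ z ∈ N * Y, y * z ∈ N * Y := by
      intro z hz
      refine Submodule.mul_induction_on hz (fun a ha w hw => ?_) (fun a b ha hb => ?_)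
      · have : y * w ∈ N * Y := by
          induction hw using Submodule.span_induction with
          | mem x hx =>
            obtain ⟨b, hb, rfl⟩ := hx
            have e : y * y ^ b = y ^ (b + 1) := by rw [pow_succ']
            rw [e]
            rcases Nat.lt_or_ge (b + 1) c with h | h
            · rw [← one_mul (y ^ (b + 1))]
              exact Submodule.mul_mem_mul h1 (Submodule.subset_span ⟨b + 1, h, rfl⟩)
            · have hb' : b < c := hb
              rw [show b + 1 = c by omega]
              exact hy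
          | zero => simp
          | add x z _ _ hx hz => rw [mul_add]; exact add_mem hx hz
          | smul r x _ hx => rw [mul_smul_comm]; exact Submodule.smul_mem _ r hx
        rw [mul_left_comm]
        have h' : a * (y * w) ∈ N * (N * Y) := Submodule.mul_mem_mul ha this
        rw [← mul_assoc N] at h'
        exact mul_le_mul' hN le_rfl h'
      · rw [mul_add]; exact add_mem ha hb
    intro b
    induction b with
    | zero => rw [pow_zero, ← one_mul (1 : R)]; exact Submodule.mul_mem_mul h1 h1Y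
    | succ b ih => rw [pow_succ']; exact hstep _ ih
  refine ⟨by simpa using hpow 0, fun a ha => ?_, by simpa using hpow 1, ?_⟩
  · rw [← mul_one a]
    exact Submodule.mul_mem_mul ha h1Y
  · have hYY : Y * Y ≤ N * Y := by
      rw [hY, Submodule.span_mul_span, ← hY, Submodule.span_le]
      rintro _ ⟨_, ⟨a, -, rfl⟩, _, ⟨b, -, rfl⟩, rfl⟩
      show y ^ a * y ^ b ∈ N * Y
      rw [← pow_add]
      exact hpow _
    calc N * Y * (N * Y) = N * N * (Y * Y) := by ac_rfl
      _ ≤ N * (N * Y) := mul_le_mul' hN hYY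
      _ = N * N * Y := by rw [mul_assoc]
      _ ≤ N * Y := mul_le_mul' hN le_rfl

/-- number of exponents of each variable -/
def cc (n i : ℕ) : ℕ := if i = 0 then 1 else if i = 1 then 2 ^ (klog n 2 - 1) else 2 ^ klog n (i + 1)

lemma base (hn : 2 ≤ n) : ∃ G H : Finset (A n), G.card ≤ n + 1 ∧ H.card ≤ n - 1 ∧
    (1 : A n) ∈ Submodule.span (ZMod 2) (G : Set (A n)) ∧
    Submodule.span (ZMod 2) (G : Set (A n)) * Submodule.span (ZMod 2) (G : Set (A n)) ≤
      Submodule.span (ZMod 2) (G : Set (A n)) ∧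
    q n (evar n 1) ∈ Submodule.span (ZMod 2) (G : Set (A n)) ∧
    q n (xvar n) ∈ Submodule.span (ZMod 2) (G : Set (A n)) ∧
    ∀ z ∈ Submodule.span (ZMod 2) (G : Set (A n)),
      q n (evar n 1) * z ∈ Submodule.span (ZMod 2) (H : Set (A n)) := by
  classical
  set e := q n (evar n 1) with he
  set x := q n (xvar n) with hx
  have hen : e ^ n = 0 := by
    rw [he, ← map_pow]; exact q_zero (Ideal.subset_span (Or.inl (by simp)))
  have hex : e * x = 0 := by
    rw [he, hx, ← map_mul]; exact q_zero (Ideal.subset_span (Or.inl (by simp)))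
  have hxx : x * x = 0 := by
    rw [hx, ← pow_two, ← map_pow]; exact q_zero (Ideal.subset_span (Or.inl (by simp)))
  let G : Finset (A n) := insert x ((Finset.range n).image fun a => e ^ a)
  let H : Finset (A n) := (Finset.range (n - 1)).image fun a => e ^ (a + 1)
  have hG : ∀ a, e ^ a ∈ Submodule.span (ZMod 2) (G : Set (A n)) := by
    intro a
    rcases Nat.lt_or_ge a n with h | h
    · exact Submodule.subset_span (by simp [G]; exact Or.inr ⟨a, h, rfl⟩)
    · obtain ⟨d, rfl⟩ := Nat.exists_eq_add_of_le h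
      simp [pow_add, hen]
  have hxG : x ∈ Submodule.span (ZMod 2) (G : Set (A n)) := Submodule.subset_span (by simp [G])
  have hax : ∀ a, e ^ a * x ∈ Submodule.span (ZMod 2) (G : Set (A n)) := by
    intro a
    cases a with
    | zero => simpa using hxG
    | succ a => rw [pow_succ, mul_assoc, hex, mul_zero]; exact zero_mem _
  refine ⟨G, H, ?_, ?_, by simpa using hG 0, ?_, by simpa using hG 1, hxG, ?_⟩
  · refine (Finset.card_insert_le _ _).trans ?_
    have := Finset.card_image_le (s := Finset.range n) (f := fun a => e ^ a)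
    simp only [Finset.card_range] at this
    omega
  · exact Finset.card_image_le.trans_eq (Finset.card_range _)
  · rw [Submodule.span_mul_span, Submodule.span_le]
    rintro _ ⟨a, ha, b, hb, rfl⟩
    simp only [G, Finset.coe_insert, Finset.coe_image, Set.mem_insert_iff, Set.mem_image] at ha hb
    show a * b ∈ Submodule.span (ZMod 2) (G : Set (A n))
    rcases ha with rfl | ⟨a, -, rfl⟩ <;> rcases hb with rfl | ⟨b, -, rfl⟩
    · rw [hxx]; exact zero_mem _
    · rw [mul_comm]; exact hax _
    · exact hax _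
    · rw [← pow_add]; exact hG _
  · intro z hz
    induction hz using Submodule.span_induction with
    | mem z hz =>
      simp only [G, Finset.coe_insert, Finset.coe_image, Set.mem_insert_iff, Set.mem_image] at hz
      rcases hz with rfl | ⟨a, ha, rfl⟩
      · rw [hex]; exact zero_mem _
      · rw [← pow_succ']
        have ha' : a < n := by simpa using ha
        rcases Nat.lt_or_ge a (n - 1) with h | h
        · exact Submodule.subset_span (by simp [H]; exact ⟨a, h, rfl⟩)
        · rw [show a + 1 = n by omega, hen]; exact zero_mem _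
    | zero => simp
    | add a b _ _ ha hb => rw [mul_add]; exact add_mem ha hb
    | smul r a _ ha => rw [mul_smul_comm]; exact Submodule.smul_mem _ r ha

lemma spanning (hn : 2 ≤ n) : ∀ k, 1 ≤ k → k ≤ numVars n → ∃ G H : Finset (A n),
    G.card ≤ (n + 1) * ∏ i ∈ Finset.range k, cc n i ∧
    H.card ≤ (n - 1) * ∏ i ∈ Finset.range k, cc n i ∧
    (1 : A n) ∈ Submodule.span (ZMod 2) (G : Set (A n)) ∧
    Submodule.span (ZMod 2) (G : Set (A n)) * Submodule.span (ZMod 2) (G : Set (A n)) ≤
      Submodule.span (ZMod 2) (G : Set (A n)) ∧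
    q n (xvar n) ∈ Submodule.span (ZMod 2) (G : Set (A n)) ∧
    (∀ i < k, q n (evar n (i + 1)) ∈ Submodule.span (ZMod 2) (G : Set (A n))) ∧
    ∀ z ∈ Submodule.span (ZMod 2) (G : Set (A n)),
      q n (evar n 1) * z ∈ Submodule.span (ZMod 2) (H : Set (A n)) := by
  classical
  intro k hk
  induction k, hk using Nat.le_induction with
  | base =>
    intro _
    obtain ⟨G, H, hG, hH, h1, hmul, he, hx, hz⟩ := base hn
    refine ⟨G, H, ?_, ?_, h1, hmul, hx, ?_, hz⟩
    · simpa [cc] using hG
    · simpa [cc] using hH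
    · intro i hi
      obtain rfl : i = 0 := by omega
      exact he
  | succ k hk ih =>
    intro hks
    obtain ⟨G, H, hG, hH, h1, hmul, hx, he, hz⟩ := ih (by omega)
    set N := Submodule.span (ZMod 2) (G : Set (A n)) with hNdef
    set y := q n (evar n (k + 1)) with hy
    set c := cc n k with hc
    have hcpos : 0 < c := by
      rw [hc, cc]; split_ifs <;> positivity
    have hpow : ∀ (a : A n) (m : ℕ), a ∈ N → a ^ m ∈ N := by
      intro a m ha
      induction m with
      | zero => simpa using h1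
      | succ m ih => rw [pow_succ]; exact hmul (Submodule.mul_mem_mul ih ha)
    set Y := Submodule.span (ZMod 2) ((fun b => y ^ b) '' Set.Iio c) with hYdef
    have hNY : ∀ a ∈ N, a ∈ N * Y := fun a ha => by
      rw [← mul_one a]
      exact Submodule.mul_mem_mul ha (Submodule.subset_span ⟨0, hcpos, pow_zero y⟩)
    have hyc : y ^ c ∈ N * Y := by
      have hrel0 : q n (hrel n (k + 1)) = 0 :=
        q_zero (Ideal.subset_span (Or.inr ⟨⟨k, by omega⟩, rfl⟩))
      have he1 : q n (evar n 1) ∈ N := he 0 (by omega)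
      by_cases hk1 : k = 1
      · subst hk1
        have hK := one_le_klog_two hn
        obtain ⟨m, hm⟩ : ∃ m, klog n 2 = m + 1 := ⟨klog n 2 - 1, by omega⟩
        have hcm : c = 2 ^ m := by rw [hc, cc, if_neg one_ne_zero, if_pos rfl, hm]; rfl
        simp only [hrel, sPoly, if_true, hm, map_add, map_mul, map_pow, map_sum,
          Finset.sum_range_succ, Nat.sub_self, pow_zero, one_mul] at hrel0
        rw [show (y ^ c : A n) = q n (evar n 2) ^ 2 ^ m by rw [hcm]]
        rw [← add_assoc, add_comm] at hrel0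
        rw [eq_neg_of_add_eq_zero_left hrel0]
        refine neg_mem (add_mem (hNY _ (hmul (Submodule.mul_mem_mul (hpow _ _ he1) hx)))
          (Submodule.sum_mem _ fun t ht => Submodule.mul_mem_mul (hpow _ _ he1)
            (Submodule.subset_span ⟨2 ^ t, ?_, rfl⟩)))
        rw [Set.mem_Iio, hcm]
        exact Nat.pow_lt_pow_right (by omega) (Finset.mem_range.mp ht)
      · have he2 : q n (evar n 2) ∈ N := he 1 (by omega)
        have hcm : c = 2 ^ klog n (k + 1) := by rw [hc, cc, if_neg (by omega), if_neg hk1]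
        simp only [hrel, if_neg (show k + 1 ≠ 2 by omega),
          if_pos (show 3 ≤ k + 1 ∧ k + 1 ≤ numVars n by omega), map_add, map_mul, map_pow] at hrel0
        rw [add_assoc] at hrel0
        rw [hcm, hy, eq_neg_of_add_eq_zero_left hrel0]
        refine hNY _ (neg_mem (add_mem (hmul (Submodule.mul_mem_mul (hpow _ _ he1) hx))
          (hmul (Submodule.mul_mem_mul (hpow _ _ he1) ?_))))
        simp only [sPoly, map_sum, map_mul, map_pow]
        exact Submodule.sum_mem _ fun t _ =>
          hmul (Submodule.mul_mem_mul (hpow _ _ he1) (hpow _ _ he2))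
    obtain ⟨g1, gN, gy, gmul⟩ := closed_step N h1 hmul y c hcpos hyc
    let S : Finset (A n) := (Finset.range c).image fun b => y ^ b
    have hS : (S : Set (A n)) = (fun b => y ^ b) '' Set.Iio c := by
      simp [S, Finset.coe_range]
    have hGS : Submodule.span (ZMod 2) ((G * S : Finset (A n)) : Set (A n)) = N * Y := by
      rw [Finset.coe_mul, ← Submodule.span_mul_span, hS]
    have hHS : Submodule.span (ZMod 2) ((H * S : Finset (A n)) : Set (A n)) =
        Submodule.span (ZMod 2) (H : Set (A n)) * Y := by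
      rw [Finset.coe_mul, ← Submodule.span_mul_span, hS]
    have hScard : S.card ≤ c := Finset.card_image_le.trans_eq (Finset.card_range _)
    refine ⟨G * S, H * S, ?_, ?_, ?_⟩
    · rw [Finset.prod_range_succ, ← mul_assoc]
      exact Finset.card_mul_le.trans (Nat.mul_le_mul hG hScard)
    · rw [Finset.prod_range_succ, ← mul_assoc]
      exact Finset.card_mul_le.trans (Nat.mul_le_mul hH hScard)
    · rw [hGS, hHS]
      refine ⟨g1, gmul, gN hx, fun i hi => ?_, fun z hzz => ?_⟩
      · rcases Nat.lt_or_ge i k with h | h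
        · exact gN (he i h)
        · rw [show i = k by omega]; exact gy
      · refine Submodule.mul_induction_on hzz (fun a ha w hw => ?_) (fun a b ha hb => ?_)
        · rw [← mul_assoc]; exact Submodule.mul_mem_mul (hz a ha) hw
        · rw [mul_add]; exact add_mem ha hb

lemma card_box (hn : 2 ≤ n) :
    2 * n * ∏ i ∈ Finset.range (numVars n), cc n i = ∏ i : Fin (numVars n), bound n i := by
  have hs := two_le_numVars hn
  obtain ⟨s, hs'⟩ : ∃ s, numVars n = s + 2 := ⟨numVars n - 2, by omega⟩
  have hb : ∏ i : Fin (numVars n), bound n i =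
      ∏ i ∈ Finset.range (numVars n), (if i = 0 then n else 2 ^ klog n (i + 1)) :=
    Fin.prod_univ_eq_prod_range (fun i => if i = 0 then n else 2 ^ klog n (i + 1)) (numVars n)
  rw [hb]
  rw [hs', Finset.prod_range_succ', Finset.prod_range_succ', Finset.prod_range_succ',
    Finset.prod_range_succ']
  simp only [cc, if_true, zero_add, one_ne_zero, if_false, Nat.succ_ne_zero,
    show ∀ a : ℕ, a + 1 + 1 ≠ 1 from fun a => by omega]
  have hk := one_le_klog_two hn
  rw [show (1 : ℕ) + 1 = 2 from rfl]
  conv_rhs => rw [show klog n 2 = klog n 2 - 1 + 1 by omega, pow_succ]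
  ring

lemma prod_bound_le_finrank [Module.Finite (ZMod 2) (P n)] :
    ∏ i : Fin (numVars n), bound n i ≤ Module.finrank (ZMod 2) (P n) := by
  classical
  let ex : ((i : Fin (numVars n)) → Fin (bound n i)) → (Fin (numVars n) →₀ ℕ) :=
    fun b => Finsupp.equivFunOnFinite.symm fun i => (b i).val
  have hex : Function.Injective ex := fun a b h => funext fun i => Fin.ext (by
    simpa [ex] using congrArg (fun d => d i) h)
  have hli : LinearIndependent (ZMod 2)
      (fun b => Ideal.Quotient.mk (truncIdeal n) (monomial (ex b) (1 : ZMod 2))) := by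
    rw [Fintype.linearIndependent_iff]
    intro g hg b
    by_contra hb
    set p : FreeP n := ∑ b, monomial (ex b) (g b) with hp
    have hpI : p ∈ truncIdeal n := by
      rw [← Ideal.Quotient.eq_zero_iff_mem, hp, map_sum, ← hg]
      refine Finset.sum_congr rfl fun c _ => ?_
      rw [show monomial (ex c) (g c) = g c • monomial (ex c) (1 : ZMod 2) by
        rw [smul_monomial, smul_eq_mul, mul_one]]
      rfl
    have hspan : truncIdeal n = Ideal.span ((fun s => monomial s (1 : ZMod 2)) ''
        Set.range fun i : Fin (numVars n) => Finsupp.single i (bound n i)) := by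
      rw [truncIdeal, ← Set.range_comp]
      congr 1
      ext1
      simp [X_pow_eq_monomial]
    rw [hspan, mem_ideal_span_monomial_image] at hpI
    have hsupp : ex b ∈ p.support := by
      rw [mem_support_iff, hp, coeff_sum, Finset.sum_eq_single b]
      · simpa using hb
      · intro c _ hcb; rw [coeff_monomial, if_neg (fun h => hcb (hex h))]
      · simp
    obtain ⟨-, ⟨i, rfl⟩, hle⟩ := hpI _ hsupp
    have := hle i
    simp [ex] at this
    have := (b i).isLt
    omega
  have := hli.fintype_card_le_finrank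
  simpa using this

theorem ker_phi (hn : 2 ≤ n) : RingHom.ker (phi n) = presIdeal n := by
  classical
  refine le_antisymm ?_ (presIdeal_le_ker hn)
  have hs := two_le_numVars hn
  obtain ⟨G, H, hG, hH, h1, hmul, hx, he, hz⟩ := spanning hn (numVars n) (by omega) le_rfl
  set N := Submodule.span (ZMod 2) (G : Set (A n)) with hN
  have htop : N = ⊤ := by
    rw [eq_top_iff]
    rintro a -
    obtain ⟨p, rfl⟩ := Ideal.Quotient.mkₐ_surjective (ZMod 2) (presIdeal n) a
    induction p using MvPolynomial.induction_on with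
    | C r =>
      rw [show (C r : FreeE n) = algebraMap (ZMod 2) (FreeE n) r from rfl, AlgHom.commutes,
        Algebra.algebraMap_eq_smul_one]
      exact N.smul_mem r h1
    | add p p' hp hp' => rw [map_add]; exact add_mem hp hp'
    | mul_X p i hp =>
      rw [map_mul]
      refine hmul (Submodule.mul_mem_mul hp ?_)
      rcases i with _ | i
      · exact hx
      · have := he i.val i.isLt
        unfold evar at this
        rw [dif_pos ⟨Nat.succ_pos _, i.isLt⟩] at this
        exact this
  haveI : Module.Finite (ZMod 2) (A n) := .of_fg_top (by rw [← htop]; exact ⟨G, rfl⟩)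
  let f : A n →ₐ[ZMod 2] P n :=
    Ideal.Quotient.liftₐ (presIdeal n) (phi n) (fun a ha => presIdeal_le_ker hn ha)
  let d : A n × A n →ₗ[ZMod 2] P n :=
    LinearMap.coprod f.toLinearMap ((LinearMap.mulRight (ZMod 2) (eps n 2)).comp f.toLinearMap)
  haveI : Module.Finite (ZMod 2) (P n) := by
    refine Module.Finite.of_surjective d fun y => ?_
    obtain ⟨u, ⟨a, rfl⟩, v, ⟨b, rfl⟩, rfl⟩ := decomp hn y
    exact ⟨(q n a, q n b), rfl⟩
  let L : P n →ₗ[ZMod 2] P n := LinearMap.id + (tau hn).toLinearMap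
  have hker : LinearMap.ker L ≤ LinearMap.range f.toLinearMap := by
    intro y hy
    have hy' : y + tau hn y = 0 := hy
    have hfix : tau hn y = y := by linear_combination hy' - y * two_zero n
    have : y ∈ (phi n).range := by
      rw [range_phi_eq hn (tau hn) (tau_one hn) (tau_j hn)]; exact hfix
    obtain ⟨a, rfl⟩ := this
    exact ⟨q n a, rfl⟩
  have hrange : LinearMap.range L ≤
      Submodule.map f.toLinearMap (Submodule.span (ZMod 2) (H : Set (A n))) := by
    rintro _ ⟨y, rfl⟩
    obtain ⟨u, hu, v, ⟨b, rfl⟩, rfl⟩ := decomp hn y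
    refine ⟨q n (evar n 1) * q n b, hz _ (htop ▸ Submodule.mem_top), ?_⟩
    have := delta hn (tau hn) (tau_one hn) (tau_j hn) hu ⟨b, rfl⟩
    refine Eq.trans ?_ this.symm
    show f (q n (evar n 1) * q n b) = _
    rw [map_mul]
    show phi n (evar n 1) * phi n b = _
    rw [phi_evar Nat.one_pos (numVars_pos n), if_pos rfl]
    rfl
  have hr1 : Module.finrank (ZMod 2) (LinearMap.range L) ≤ H.card := by
    refine (Submodule.finrank_mono hrange).trans ?_
    rw [Submodule.map_span, ← Finset.coe_image]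
    exact (finrank_span_finset_le_card _).trans Finset.card_image_le
  have hr2 := Submodule.finrank_mono hker
  have hr3 := L.finrank_range_add_finrank_ker
  have hr4 := f.toLinearMap.finrank_range_add_finrank_ker
  have hA : Module.finrank (ZMod 2) (A n) ≤ G.card := by
    rw [← finrank_top, ← htop]
    exact finrank_span_finset_le_card _
  have hP := prod_bound_le_finrank (n := n)
  rw [← card_box hn] at hP
  have hk0 : Module.finrank (ZMod 2) (LinearMap.ker f.toLinearMap) = 0 := by
    set M := ∏ i ∈ Finset.range (numVars n), cc n i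
    have : 2 * n * M = (n - 1) * M + (n + 1) * M := by
      rw [← add_mul]; congr 1; omega
    omega
  have hinj : LinearMap.ker f.toLinearMap = ⊥ := Submodule.finrank_eq_zero.mp hk0
  intro a ha
  have : q n a ∈ LinearMap.ker f.toLinearMap := ha
  rw [hinj, Submodule.mem_bot] at this
  exact Ideal.Quotient.eq_zero_iff_mem.mp this

end Groth.Agent.QsChowLib
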